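import Mathlib
import Groth.Agent.HenselDesc.Local
import Groth.Agent.HenselLib.Normal
import Groth.Agent.S2539

/-! Local rings of étale morphisms: dimension, regularity, normality. -/

set_option autoImplicit false
universe u

open CategoryTheory AlgebraicGeometry IsLocalRing TensorProduct

namespace EtStalkLib

theorem etCov_localization {A B : Type u} [CommRing A] [CommRing B] [Algebra A B] [Algebra.Etale A B]
    (Rp Sq : Type u) [CommRing Rp] [CommRing Sq] (p : Submonoid A) (q : Submonoid B)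
    [Algebra A Rp] [IsLocalization p Rp] [Algebra B Sq] [IsLocalization q Sq] [Algebra A Sq]
    [IsScalarTower A B Sq] [Algebra Rp Sq] [IsScalarTower A Rp Sq] (x : Sq) :
    HenselLib.EtCov (R := Rp) x := by
  obtain ⟨b, s, rfl⟩ := IsLocalization.exists_mk'_eq q x
  haveI : Algebra.Etale B (Localization.Away (s : B)) := Algebra.Etale.of_isLocalizationAway (s : B)
  haveI : Algebra.Etale A (Localization.Away (s : B)) := Algebra.Etale.comp A B _
  let f : Localization.Away (s : B) →ₐ[B] Sq :=
    IsLocalization.liftAlgHom (M := Submonoid.powers (s : B)) (f := Algebra.ofId B Sq) (by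
      rintro ⟨_, n, rfl⟩; show IsUnit (algebraMap B Sq ((s : B) ^ n)); rw [map_pow]; exact (IsLocalization.map_units Sq s).pow n)
  refine ⟨Rp ⊗[A] Localization.Away (s : B), inferInstance, inferInstance, inferInstance,
    Algebra.TensorProduct.lift (Algebra.ofId Rp Sq) (f.restrictScalars A) (fun _ _ => .all _ _), ?_⟩
  refine ⟨(1 : Rp) ⊗ₜ IsLocalization.mk' (Localization.Away (s : B)) b (⟨(s : B), 1, pow_one _⟩ : Submonoid.powers (s : B)), ?_⟩
  change Algebra.TensorProduct.lift (Algebra.ofId Rp Sq) (f.restrictScalars A) (fun _ _ => .all _ _) _ = _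
  rw [Algebra.TensorProduct.lift_tmul, map_one, one_mul, AlgHom.restrictScalars_apply, IsLocalization.eq_mk'_iff_mul_eq,
    ← f.commutes, ← map_mul, IsLocalization.mk'_spec, f.commutes]

section Local
variable {A B : Type u} [CommRing A] [IsLocalRing A] [CommRing B] [IsLocalRing B] [Algebra A B]
  [IsLocalHom (algebraMap A B)] [Module.Flat A B]

theorem dim_eq [IsNoetherianRing A] [IsNoetherianRing B]
    (hm : (maximalIdeal A).map (algebraMap A B) = maximalIdeal B) : ringKrullDim B = ringKrullDim A :=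
  CohenLib.ringKrullDim_eq_of_flat_unramified A B hm

theorem normal_iff (hcov : ∀ x : B, HenselLib.EtCov (R := A) x) :
    (IsDomain B ∧ IsIntegrallyClosed B) ↔ (IsDomain A ∧ IsIntegrallyClosed A) := by
  refine ⟨fun ⟨_, _⟩ => ?_, fun ⟨_, _⟩ => HenselLib.normal_of_etCov hcov⟩
  haveI : Module.FaithfullyFlat A B := Module.FaithfullyFlat.of_flat_of_isLocalHom
  exact Groth.Agent.S2539.normal_descends A B

end Local

variable {X Y : Scheme.{u}} (f : X ⟶ Y) [AlgebraicGeometry.Etale f] (x : X)

theorem stalk_props :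
    letI := (f.stalkMap x).hom.toAlgebra
    Module.Flat (Y.presheaf.stalk (f x)) (X.presheaf.stalk x) ∧
    IsLocalHom (algebraMap (Y.presheaf.stalk (f x)) (X.presheaf.stalk x)) ∧
    (maximalIdeal (Y.presheaf.stalk (f x))).map (algebraMap (Y.presheaf.stalk (f x)) (X.presheaf.stalk x)) = maximalIdeal (X.presheaf.stalk x) ∧
    ∀ z : X.presheaf.stalk x, HenselLib.EtCov (R := Y.presheaf.stalk (f x)) z := by
  algebraize [(f.stalkMap x).hom]
  have : IsLocalHom (algebraMap (Y.presheaf.stalk (f x)) (X.presheaf.stalk x)) :=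
    inferInstanceAs <| IsLocalHom (f.stalkMap x).hom
  have : Algebra.EssFiniteType (Y.presheaf.stalk (f x)) (X.presheaf.stalk x) := by
    rw [← RingHom.essFiniteType_algebraMap, RingHom.algebraMap_toAlgebra]
    exact LocallyOfFiniteType.stalkMap f x
  have : Algebra.FormallyUnramified (Y.presheaf.stalk (f x)) (X.presheaf.stalk x) := by
    rw [← RingHom.formallyUnramified_algebraMap, RingHom.algebraMap_toAlgebra]
    exact FormallyUnramified.stalkMap f x
  refine ⟨Flat.stalkMap f x, inferInstance, Algebra.FormallyUnramified.map_maximalIdeal, fun z => ?_⟩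
  obtain ⟨U, hU, hyU, -⟩ := exists_isAffineOpen_mem_and_subset (X := Y) (x := f x) (U := ⊤) trivial
  obtain ⟨V, hV, hxV, hVU⟩ := exists_isAffineOpen_mem_and_subset (X := X) (x := x) (U := f ⁻¹ᵁ U) hyU
  have het : (f.appLE U V hVU).hom.Etale := HasRingHomProperty.appLE (P := @AlgebraicGeometry.Etale) f inferInstance ⟨U, hU⟩ ⟨V, hV⟩ hVU
  algebraize [(f.appLE U V hVU).hom]
  letI := TopCat.Presheaf.algebra_section_stalk Y.presheaf (U := U) ⟨f x, hyU⟩
  letI := TopCat.Presheaf.algebra_section_stalk X.presheaf (U := V) ⟨x, hxV⟩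
  letI : Algebra Γ(Y, U) (X.presheaf.stalk x) := ((algebraMap Γ(X, V) (X.presheaf.stalk x)).comp (algebraMap Γ(Y, U) Γ(X, V))).toAlgebra
  haveI : IsScalarTower Γ(Y, U) Γ(X, V) (X.presheaf.stalk x) := .of_algebraMap_eq' rfl
  haveI : IsScalarTower Γ(Y, U) (Y.presheaf.stalk (f x)) (X.presheaf.stalk x) := by
    refine .of_algebraMap_eq fun a => ?_
    change (X.presheaf.germ V x hxV) (f.appLE U V hVU a) = (f.stalkMap x) (Y.presheaf.germ U (f x) hyU a)
    rw [Scheme.Hom.germ_stalkMap_apply, Scheme.Hom.appLE, CommRingCat.comp_apply, X.presheaf.germ_res_apply]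
  exact @etCov_localization Γ(Y, U) Γ(X, V) _ _ _ het _ _ _ _ (hU.primeIdealOf ⟨f x, hyU⟩).asIdeal.primeCompl
    (hV.primeIdealOf ⟨x, hxV⟩).asIdeal.primeCompl _ (hU.isLocalization_stalk ⟨f x, hyU⟩) _
    (hV.isLocalization_stalk ⟨x, hxV⟩) _ _ _ _ z

theorem ringKrullDim_eq [IsLocallyNoetherian Y] :
    ringKrullDim (X.presheaf.stalk x) = ringKrullDim (Y.presheaf.stalk (f x)) := by
  haveI := LocallyOfFiniteType.isLocallyNoetherian f
  obtain ⟨h1, h2, h3, -⟩ := stalk_props f x
  letI := (f.stalkMap x).hom.toAlgebra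
  exact dim_eq h3

theorem isRegularLocalRing_iff [IsLocallyNoetherian Y] :
    IsRegularLocalRing (X.presheaf.stalk x) ↔ IsRegularLocalRing (Y.presheaf.stalk (f x)) := by
  haveI := LocallyOfFiniteType.isLocallyNoetherian f
  obtain ⟨h1, h2, h3, -⟩ := stalk_props f x
  letI := (f.stalkMap x).hom.toAlgebra
  exact HenselDesc.isRegularLocalRing_iff_of_flat_unramified' _ _ h3

theorem normal_iff_stalk :
    (IsDomain (X.presheaf.stalk x) ∧ IsIntegrallyClosed (X.presheaf.stalk x)) ↔
      (IsDomain (Y.presheaf.stalk (f x)) ∧ IsIntegrallyClosed (Y.presheaf.stalk (f x))) := by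
  obtain ⟨h1, h2, -, h4⟩ := stalk_props f x
  letI := (f.stalkMap x).hom.toAlgebra
  exact normal_iff h4

end EtStalkLib
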